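import Mathlib.RingTheory.Filtration
import Mathlib.RingTheory.LocalRing.MaximalIdeal.Basic
import Mathlib.RingTheory.Noetherian.Basic
import Mathlib.RingTheory.Ideal.Colon
import Mathlib.RingTheory.Finiteness.Ideal

/-!
A family of ideals which is eventually adically small and whose members vanish on the punctured
spectrum contains the zero ideal.
-/

set_option autoImplicit false
universe u v

namespace Groth.Agent.FilSubLib

variable {R : Type u} [CommRing R] [IsNoetherianRing R] [IsLocalRing R]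

open IsLocalRing

theorem exists_pow_mul_eq_bot (K : Ideal R)
    (h : ∀ q : Ideal R, q.IsPrime → q ≠ maximalIdeal R → ∀ a ∈ K, ∃ c ∉ q, c * a = 0) :
    ∃ L : ℕ, maximalIdeal R ^ L * K = ⊥ := by
  classical
  obtain ⟨s, hs⟩ := (IsNoetherian.noetherian K : K.FG)
  let N : Ideal R := K.annihilator
  suffices hrad : maximalIdeal R ≤ N.radical by
    obtain ⟨L, hL'⟩ := Ideal.exists_radical_pow_le_of_fg N (IsNoetherian.noetherian _)
    have hL : maximalIdeal R ^ L ≤ N := (Ideal.pow_right_mono hrad L).trans hL'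
    refine ⟨L, le_bot_iff.1 ?_⟩
    rw [Ideal.mul_le]
    intro c hc a ha
    rw [Ideal.mem_bot, ← smul_eq_mul]
    exact Submodule.mem_annihilator.1 (hL hc) a ha
  rw [Ideal.radical_eq_sInf]
  refine le_sInf fun q ⟨hle, hq⟩ => ?_
  by_contra hne
  have hne' : q ≠ maximalIdeal R := fun e => hne (e ▸ le_rfl)
  have hsK : ∀ a : {a // a ∈ s}, (a : R) ∈ K := fun a => hs ▸ Ideal.subset_span a.2
  choose c hc hca using fun a : {a // a ∈ s} => h q hq hne' a (hsK a)
  have hmem : ∏ a, c a ∈ N := by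
    rw [Submodule.mem_annihilator]
    intro b hb
    rw [← hs] at hb
    induction hb using Submodule.span_induction with
    | mem b hb =>
      obtain ⟨d, hd⟩ := Finset.dvd_prod_of_mem c (Finset.mem_univ ⟨b, hb⟩)
      rw [hd, smul_eq_mul, mul_comm (c _), mul_assoc, hca ⟨b, hb⟩, mul_zero]
    | zero => exact smul_zero _
    | add x y _ _ hx hy => rw [smul_add, hx, hy, add_zero]
    | smul r x _ hx => rw [smul_comm, hx, smul_zero]
  obtain ⟨a, -, ha⟩ := (hq.prod_mem_iff).1 (hle hmem)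
  exact hc a ha

theorem exists_eq_bot {ι : Type v} (K : ι → Ideal R) (i₀ : ι)
    (hsmall : ∀ n : ℕ, ∃ j, K j ≤ K i₀ ∧ K j ≤ maximalIdeal R ^ n)
    (hpunct : ∀ q : Ideal R, q.IsPrime → q ≠ maximalIdeal R → ∀ a ∈ K i₀, ∃ c ∉ q, c * a = 0) :
    ∃ j, K j = ⊥ ∧ K j ≤ K i₀ := by
  obtain ⟨L, hL⟩ := exists_pow_mul_eq_bot (K i₀) hpunct
  obtain ⟨c, hc⟩ := (maximalIdeal R).exists_pow_inf_eq_pow_smul (M := R) (K i₀)
  obtain ⟨j, hj₀, hj⟩ := hsmall (L + c)
  refine ⟨j, le_bot_iff.1 ?_, hj₀⟩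
  calc K j ≤ maximalIdeal R ^ (L + c) • ⊤ ⊓ K i₀ := by
        rw [Ideal.smul_top_eq_map, Algebra.algebraMap_self, Ideal.map_id,
          Submodule.restrictScalars_self]
        exact le_inf hj hj₀
    _ = maximalIdeal R ^ L • (maximalIdeal R ^ c • ⊤ ⊓ K i₀) := by
        rw [hc (L + c) (by omega), Nat.add_sub_cancel]
    _ ≤ maximalIdeal R ^ L • K i₀ := Submodule.smul_mono le_rfl inf_le_right
    _ = ⊥ := by rw [smul_eq_mul, hL]

end Groth.Agent.FilSubLib
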