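import Groth.Agent.FilSubLib.Algebra
import Mathlib.AlgebraicGeometry.Morphisms.Immersion
import Mathlib.AlgebraicGeometry.Morphisms.FiniteType
import Mathlib.AlgebraicGeometry.SpreadingOut
import Mathlib.AlgebraicGeometry.Noetherian
import Mathlib.RingTheory.Localization.AtPrime.Basic

/-!
Increasing filtered families of subschemes exhausting all infinitesimal fibres.
-/

set_option autoImplicit false
universe u v
open CategoryTheory CategoryTheory.Limits AlgebraicGeometry IsLocalRing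

namespace Groth.Agent.FilSubLib

variable {X Y : Scheme.{u}}

/-- The ideal of a subscheme in a local ring of the ambient scheme. -/
theorem exists_ideal (y : Y ⟶ X) [IsImmersion y] (x : X) (hx : x ∈ Set.range y) :
    ∃ I : Ideal (X.presheaf.stalk x), ∀ (T : CommRingCat.{u}) (r : X.presheaf.stalk x ⟶ T),
      (∃ g : Spec T ⟶ Y, g ≫ y = Spec.map r ≫ X.fromSpecStalk x) ↔ I ≤ RingHom.ker r.hom := by
  let π := pullback.snd y (X.fromSpecStalk x)
  haveI : IsImmersion π := MorphismProperty.pullback_snd _ _ inferInstance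
  have hcl : closedPoint (X.presheaf.stalk x) ∈ Set.range π := by
    rw [Scheme.Pullback.range_snd]
    show X.fromSpecStalk x _ ∈ Set.range y
    rw [Scheme.fromSpecStalk_closedPoint]
    exact hx
  haveI : IsClosedImmersion π := by
    refine .of_isPreimmersion _ ?_
    obtain ⟨U, Z, hU, hZ, hUZ⟩ := π.isLocallyClosed_range
    have hUtop : U = Set.univ := by
      rw [hUZ] at hcl
      refine Set.eq_univ_of_forall fun p => ?_
      exact (IsLocalRing.specializes_closedPoint p).mem_open hU hcl.1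
    rw [hUZ, hUtop, Set.univ_inter]
    exact hZ
  obtain ⟨I, e, he⟩ := IsClosedImmersion.Spec_iff.1 ‹IsClosedImmersion π›
  refine ⟨I, fun T r => ⟨?_, fun hr => ?_⟩⟩
  · rintro ⟨g, hg⟩
    let l : Spec T ⟶ pullback y (X.fromSpecStalk x) := pullback.lift g (Spec.map r) hg
    have hl : l ≫ π = Spec.map r := pullback.lift_snd _ _ _
    obtain ⟨φ, hφ⟩ := Spec.map_surjective (l ≫ e.hom)
    have h : Spec.map (CommRingCat.ofHom (Ideal.Quotient.mk I) ≫ φ) = Spec.map r := by
      rw [Spec.map_comp, hφ, Category.assoc, ← he, hl]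
    intro a ha
    rw [RingHom.mem_ker, ← Spec.map_injective h]
    show φ.hom (Ideal.Quotient.mk I a) = 0
    rw [Ideal.Quotient.eq_zero_iff_mem.2 ha, map_zero]
  · let φ : CommRingCat.of (X.presheaf.stalk x ⧸ I) ⟶ T :=
      CommRingCat.ofHom (Ideal.Quotient.lift I r.hom fun a ha => hr ha)
    refine ⟨Spec.map φ ≫ e.inv ≫ pullback.fst y (X.fromSpecStalk x), ?_⟩
    rw [Category.assoc, Category.assoc, pullback.condition]
    have h : e.inv ≫ π = Spec.map (CommRingCat.ofHom (Ideal.Quotient.mk I)) := by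
      rw [he, e.inv_hom_id_assoc]
    rw [show e.inv ≫ pullback.snd y (X.fromSpecStalk x) ≫ X.fromSpecStalk x =
      (e.inv ≫ π) ≫ X.fromSpecStalk x from (Category.assoc _ _ _).symm, h, ← Category.assoc,
      ← Spec.map_comp]
    rfl

/-- The subscheme has a section over a neighbourhood. -/
def Good {ι : Type v} {Xi : ι → Scheme.{u}} (x : ∀ i, Xi i ⟶ X) (i : ι) : X.Opens :=
  sSup {U : X.Opens | ∃ s : U.toScheme ⟶ Xi i, s ≫ x i = U.ι}

theorem mem_good {ι : Type v} {Xi : ι → Scheme.{u}} (x : ∀ i, Xi i ⟶ X) (i : ι) (p : X) :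
    p ∈ Good x i ↔ ∃ U : X.Opens, p ∈ U ∧ ∃ s : U.toScheme ⟶ Xi i, s ≫ x i = U.ι := by
  rw [Good, TopologicalSpace.Opens.mem_sSup]
  exact ⟨fun ⟨U, h1, h2⟩ => ⟨U, h2, h1⟩, fun ⟨U, h1, h2⟩ => ⟨U, h2, h1⟩⟩

theorem exists_isIso {S : Scheme.{u}} [IsNoetherian X] (f : X ⟶ S)
    {D : Type u} [Preorder D] [IsDirected D (fun a b => a ≤ b)] [Nonempty D]
    (Xi : D → Scheme.{u}) (x : ∀ i, Xi i ⟶ X) [∀ i, IsImmersion (x i)]
    (hmono : ∀ i j, i ≤ j → ∃ t : Xi i ⟶ Xi j, t ≫ x j = x i)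
    (h : ∀ (s : S) (n : ℕ), ∃ i : D,
      IsIso (pullback.snd (x i) (pullback.fst f
        (Spec.map (CommRingCat.ofHom (Ideal.Quotient.mk (IsLocalRing.maximalIdeal (S.presheaf.stalk s) ^ (n + 1)))) ≫ S.fromSpecStalk s)))) :
    ∃ i : D, IsIso (x i) := by
  classical
  have hgood : ∀ i j, i ≤ j → Good x i ≤ Good x j := by
    intro i j hij p hp
    obtain ⟨t, ht⟩ := hmono i j hij
    obtain ⟨U, hpU, s, hs⟩ := (mem_good x i p).1 hp
    exact (mem_good x j p).2 ⟨U, hpU, s ≫ t, by rw [Category.assoc, ht, hs]⟩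
  let W : X.Opens := ⨆ i, Good x i
  have hWc : IsCompact (W : Set X) := TopologicalSpace.NoetherianSpace.isCompact _
  obtain ⟨i₀, hi₀⟩ : ∃ i, W ≤ Good x i := by
    obtain ⟨i, hi⟩ := hWc.elim_directed_cover (fun i => ((Good x i : X.Opens) : Set X))
      (fun i => (Good x i).isOpen) (by simp [W])
      (fun a b => by
        obtain ⟨c, hac, hbc⟩ := directed_of (· ≤ ·) a b
        exact ⟨c, hgood a c hac, hgood b c hbc⟩)
    exact ⟨i, hi⟩
  suffices hW : W = ⊤ by
    refine ⟨i₀, ?_⟩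
    rw [hW, top_le_iff] at hi₀
    change MorphismProperty.isomorphisms Scheme.{u} (x i₀)
    let 𝒰 : {U : X.Opens // ∃ s : U.toScheme ⟶ Xi i₀, s ≫ x i₀ = U.ι} → X.Opens := fun U => U.1
    have htop : iSup 𝒰 = ⊤ := by
      rw [eq_top_iff]
      intro p _
      obtain ⟨U, hpU, hs⟩ := (mem_good x i₀ p).1 (hi₀ ▸ trivial)
      exact TopologicalSpace.Opens.mem_iSup.2 ⟨⟨U, hs⟩, hpU⟩
    rw [IsZariskiLocalAtTarget.iff_of_iSup_eq_top (P := MorphismProperty.isomorphisms Scheme.{u}) 𝒰 htop]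
    rintro ⟨U, s, hs⟩
    show IsIso (x i₀ ∣_ U)
    let s' : U.toScheme ⟶ (x i₀ ⁻¹ᵁ U).toScheme := IsOpenImmersion.lift (x i₀ ⁻¹ᵁ U).ι s (by
      rintro _ ⟨q, rfl⟩
      rw [Scheme.Opens.range_ι]
      show x i₀ (s q) ∈ U
      have h1 : x i₀ (s q) = U.ι q := congr(($hs).base q)
      rw [h1]
      exact q.2)
    have hsec : s' ≫ (x i₀ ∣_ U) = 𝟙 _ := by
      rw [← cancel_mono U.ι, Category.assoc, morphismRestrict_ι, IsOpenImmersion.lift_fac_assoc,
        hs, Category.id_comp]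
    haveI : Mono (x i₀ ∣_ U) := by
      haveI : IsImmersion (x i₀ ∣_ U) := IsZariskiLocalAtTarget.restrict (P := @IsImmersion) (inferInstanceAs (IsImmersion (x i₀))) U
      infer_instance
    exact ⟨s', by rw [← cancel_mono (x i₀ ∣_ U), Category.assoc, hsec, Category.comp_id,
      Category.id_comp], hsec⟩
  by_contra hne
  have hne' : ((W : Set X)ᶜ).Nonempty := by
    rw [Set.nonempty_compl]
    exact fun e => hne (TopologicalSpace.Opens.ext e)
  obtain ⟨p, hpW, hmax⟩ : ∃ p ∉ W, ∀ q, q ⤳ p → q ≠ p → q ∈ W := by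
    haveI : Nonempty ↥((W : Set X)ᶜ) := hne'.to_subtype
    obtain ⟨Z, hZ⟩ : (irreducibleComponents ↥((W : Set X)ᶜ)).Nonempty :=
      ⟨_, irreducibleComponent_mem_irreducibleComponents (Classical.arbitrary _)⟩
    have hcl : IsClosed ((W : Set X)ᶜ) := W.isOpen.isClosed_compl
    have hZirr : IsIrreducible (Subtype.val '' Z) :=
      hZ.1.image _ continuous_subtype_val.continuousOn
    have hZcl : IsClosed (Subtype.val '' Z) :=
      hcl.isClosedEmbedding_subtypeVal.isClosedMap _ (isClosed_of_mem_irreducibleComponents Z hZ)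
    obtain ⟨p, hp⟩ := QuasiSober.sober hZirr hZcl
    have hpZ : p ∈ Subtype.val '' Z := hp.mem
    obtain ⟨p', hp'Z, hp'⟩ := hpZ
    refine ⟨p, hp' ▸ p'.2, fun q hq hqp => by_contra fun hqW => hqp ?_⟩
    have hq' : (⟨q, hqW⟩ : ↥((W : Set X)ᶜ)) ⤳ p' := by
      rw [subtype_specializes_iff, hp']; exact hq
    have hle : Z ⊆ closure {(⟨q, hqW⟩ : ↥((W : Set X)ᶜ))} := by
      intro z hz
      have h1 : p ⤳ z.1 := hp.specializes ⟨z, hz, rfl⟩
      exact ((subtype_specializes_iff _ _).2 (hq.trans h1)).mem_closure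
    have hge := hZ.2 (isIrreducible_singleton.closure) hle
    have hqZ : (⟨q, hqW⟩ : ↥((W : Set X)ᶜ)) ∈ Z := hge (subset_closure (Set.mem_singleton _))
    have h1 : p ⤳ q := hp.specializes ⟨_, hqZ, rfl⟩
    exact (hq.antisymm h1).eq
  let s := f p
  let R := X.presheaf.stalk p
  have key : ∀ n : ℕ, ∃ j, ∃ g : Spec (CommRingCat.of (R ⧸ maximalIdeal R ^ n)) ⟶ Xi j,
      g ≫ x j = Spec.map (CommRingCat.ofHom (Ideal.Quotient.mk (maximalIdeal R ^ n))) ≫
        X.fromSpecStalk p := by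
    intro n
    obtain ⟨i, hi⟩ := h s n
    let J := maximalIdeal (S.presheaf.stalk s) ^ (n + 1)
    let β : CommRingCat.of (S.presheaf.stalk s ⧸ J) ⟶ CommRingCat.of (R ⧸ maximalIdeal R ^ n) :=
      CommRingCat.ofHom (Ideal.Quotient.lift J
        ((Ideal.Quotient.mk (maximalIdeal R ^ n)).comp (f.stalkMap p).hom) fun a ha => by
          rw [RingHom.comp_apply, Ideal.Quotient.eq_zero_iff_mem]
          have h1 : J.map (f.stalkMap p).hom ≤ maximalIdeal R ^ n := by
            rw [Ideal.map_pow]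
            have hloc : (maximalIdeal (S.presheaf.stalk s)).map (f.stalkMap p).hom ≤ maximalIdeal R := by
              rw [Ideal.map_le_iff_le_comap]
              intro b hb hu
              exact hb ((isUnit_map_iff (f.stalkMap p).hom b).1 hu)
            exact (Ideal.pow_right_mono hloc _).trans (Ideal.pow_le_pow_right (Nat.le_succ n))
          exact h1 (Ideal.mem_map_of_mem _ ha))
    have hcond : (Spec.map (CommRingCat.ofHom (Ideal.Quotient.mk (maximalIdeal R ^ n))) ≫
        X.fromSpecStalk p) ≫ f =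
        Spec.map β ≫ Spec.map (CommRingCat.ofHom (Ideal.Quotient.mk J)) ≫ S.fromSpecStalk s := by
      rw [Category.assoc, ← Scheme.SpecMap_stalkMap_fromSpecStalk, ← Spec.map_comp_assoc,
        ← Spec.map_comp_assoc]
      rfl
    let l := pullback.lift _ _ hcond
    haveI := hi
    refine ⟨i, l ≫ inv (pullback.snd (x i) (pullback.fst f
      (Spec.map (CommRingCat.ofHom (Ideal.Quotient.mk J)) ≫ S.fromSpecStalk s))) ≫ pullback.fst _ _, ?_⟩
    rw [Category.assoc, Category.assoc, pullback.condition, IsIso.inv_hom_id_assoc,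
      pullback.lift_fst]
  obtain ⟨i₁, g₁, hg₁⟩ := key 1
  have hrange : ∀ j, i₁ ≤ j → p ∈ Set.range (x j) := by
    intro j hj
    obtain ⟨t, ht⟩ := hmono i₁ j hj
    haveI : Nontrivial (R ⧸ maximalIdeal R ^ 1) :=
      Ideal.Quotient.nontrivial_iff.2 (by rw [pow_one]; exact (maximalIdeal.isMaximal R).ne_top)
    obtain ⟨q⟩ : Nonempty (PrimeSpectrum (R ⧸ maximalIdeal R ^ 1)) :=
      PrimeSpectrum.nonempty_iff_nontrivial.2 inferInstance
    refine ⟨t (g₁ q), ?_⟩
    have h1 : x j (t (g₁ q)) = X.fromSpecStalk p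
        ((Spec.map (CommRingCat.ofHom (Ideal.Quotient.mk (maximalIdeal R ^ 1)))) q) := by
      have := congr(($ht).base (g₁ q))
      have h2 := congr(($hg₁).base q)
      exact this.trans h2
    rw [h1]
    convert Scheme.fromSpecStalk_closedPoint (x := p)
    refine PrimeSpectrum.ext ((maximalIdeal.isMaximal R).eq_of_le ?_ ?_).symm
    · exact ((Spec.map (CommRingCat.ofHom (Ideal.Quotient.mk (maximalIdeal R ^ 1)))) q).isPrime.ne_top
    · intro a ha
      show Ideal.Quotient.mk (maximalIdeal R ^ 1) a ∈ q.asIdeal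
      rw [Ideal.Quotient.eq_zero_iff_mem.2 (by rwa [pow_one])]
      exact zero_mem _
  obtain ⟨k₀, hk1, hk0⟩ := directed_of (· ≤ ·) i₁ i₀
  choose I hI using fun j : {j : D // k₀ ≤ j} => exists_ideal (x j.1) p (hrange j.1 (hk1.trans j.2))
  have hIle : ∀ (a b : {j : D // k₀ ≤ j}), a.1 ≤ b.1 → I b ≤ I a := by
    intro a b hab
    obtain ⟨t, ht⟩ := hmono a.1 b.1 hab
    obtain ⟨g, hg⟩ := (hI a (CommRingCat.of (R ⧸ I a)) (CommRingCat.ofHom (Ideal.Quotient.mk (I a)))).2
      (le_of_eq (Ideal.mk_ker (I := I a)).symm)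
    have h2 := (hI b _ _).1 ⟨g ≫ t, by rw [Category.assoc, ht]; exact hg⟩
    exact h2.trans (le_of_eq Ideal.mk_ker)
  haveI : _root_.IsNoetherianRing R := by
    obtain ⟨_, ⟨U, hU, rfl⟩, hpU, -⟩ :=
      X.isBasis_affineOpens.exists_subset_of_mem_open (Set.mem_univ p) isOpen_univ
    haveI : _root_.IsNoetherianRing Γ(X, U) := IsLocallyNoetherian.component_noetherian ⟨U, hU⟩
    letI : Algebra Γ(X, U) R := (X.presheaf.germ U p hpU).hom.toAlgebra
    haveI := hU.isLocalization_stalk ⟨p, hpU⟩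
    exact IsLocalization.isNoetherianRing (hU.primeIdealOf ⟨p, hpU⟩).asIdeal.primeCompl R inferInstance
  obtain ⟨j, hj, -⟩ := exists_eq_bot (R := R) I ⟨k₀, le_rfl⟩ (fun n => by
      obtain ⟨i, g, hg⟩ := key n
      obtain ⟨j, hj1, hj2⟩ := directed_of (· ≤ ·) i k₀
      obtain ⟨t, ht⟩ := hmono i j hj1
      refine ⟨⟨j, hj2⟩, hIle _ _ hj2, ?_⟩
      have h2 := (hI ⟨j, hj2⟩ _ _).1 ⟨g ≫ t, by rw [Category.assoc, ht]; exact hg⟩
      exact h2.trans (le_of_eq Ideal.mk_ker))
    (fun q hq hqm a ha => by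
      let T := CommRingCat.of (Localization.AtPrime q)
      let r : R ⟶ T := CommRingCat.ofHom (algebraMap R (Localization.AtPrime q))
      let y := X.fromSpecStalk p ⟨q, hq⟩
      have hy : y ∈ Good x k₀ := by
        refine hgood i₀ k₀ hk0 (hi₀ (hmax y ?_ ?_))
        · exact (Scheme.range_fromSpecStalk (X := X) (x := p)).le ⟨_, rfl⟩
        · intro e
          apply hqm
          have := (X.fromSpecStalk p).isEmbedding.injective
            (e.trans (Scheme.fromSpecStalk_closedPoint (x := p)).symm)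
          exact congrArg PrimeSpectrum.asIdeal this
      obtain ⟨U, hyU, sU, hsU⟩ := (mem_good x k₀ y).1 hy
      have hland : Set.range (Spec.map r ≫ X.fromSpecStalk p) ⊆ Set.range U.ι := by
        rintro _ ⟨z, rfl⟩
        rw [Scheme.Opens.range_ι]
        have h1 : (Spec.map r) z ⤳ (⟨q, hq⟩ : PrimeSpectrum R) := by
          refine (PrimeSpectrum.le_iff_specializes _ _).1 ?_
          intro b hb
          by_contra hbq
          have hu : IsUnit (r.hom b) :=
            IsLocalization.map_units (Localization.AtPrime q) (⟨b, hbq⟩ : q.primeCompl)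
          exact z.isPrime.ne_top (Ideal.eq_top_of_isUnit_mem _ hb hu)
        exact (h1.map (X.fromSpecStalk p).continuous).mem_open U.isOpen hyU
      let g := IsOpenImmersion.lift U.ι _ hland ≫ sU
      have hg : g ≫ x k₀ = Spec.map r ≫ X.fromSpecStalk p := by
        rw [Category.assoc, hsU, IsOpenImmersion.lift_fac]
      have h2 := (hI ⟨k₀, le_rfl⟩ T r).1 ⟨g, hg⟩ ha
      obtain ⟨c, hc⟩ := (IsLocalization.map_eq_zero_iff q.primeCompl (Localization.AtPrime q) a).1 h2
      exact ⟨c.1, c.2, hc⟩)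
  obtain ⟨g, hg⟩ := (hI j (X.presheaf.stalk p) (𝟙 _)).2 (by rw [hj]; exact bot_le)
  rw [Spec.map_id, Category.id_comp] at hg
  obtain ⟨U, hpU, sU, -, hs⟩ := spread_out_of_isGermInjective' (𝟙 X) (x j.1) g
    (by rw [hg, Category.comp_id])
  rw [Category.comp_id] at hs
  exact hpW (TopologicalSpace.Opens.mem_iSup.2 ⟨j.1, (mem_good x j.1 p).2 ⟨U, hpU, sU, hs⟩⟩)

end Groth.Agent.FilSubLib
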